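import Mathlib
import Cfsg.Agent.Lib.ClassSize.CoprimeTop
import Cfsg.Agent.Lib.Transfer.Burnside
import Cfsg.Agent.Lib.Perm.SmallSuborbit

/-!
# p-by-cyclic subgroups

A group with a normal Sylow `p`-subgroup and cyclic quotient is `S ⊔ ⟨y⟩` with `S` a `p`-group
normalised by the `p'`-element `y`, and conversely.
-/

set_option autoImplicit false
set_option linter.style.haveILetI false
set_option linter.unusedSectionVars false

namespace Cfsg.Agent.PByCyclic

open Subgroup

variable {G : Type*} [Group G] [Finite G] {p : ℕ} [Fact p.Prime]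

/-- The hypothesis: normal Sylow `p`-subgroup with cyclic quotient. -/
def IsPByCyclic (p : ℕ) (H : Subgroup G) : Prop :=
  (∀ S : Sylow p ↥H, (S : Subgroup ↥H).Normal) ∧
    ∀ (S : Sylow p ↥H) [(S : Subgroup ↥H).Normal], IsCyclic (↥H ⧸ (S : Subgroup ↥H))

theorem isPByCyclic_sup_zpowers {S : Subgroup G} {y : G} (hS : IsPGroup p S)
    (hy : y ∈ normalizer (S : Set G)) : IsPByCyclic p (S ⊔ zpowers y) := by
  set H := S ⊔ zpowers y
  haveI hSn : (S.subgroupOf H).Normal :=
    normal_subgroupOf_of_le_normalizer (sup_le le_normalizer (zpowers_le.2 hy))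
  set y' : ↥H := ⟨y, mem_sup_right (mem_zpowers y)⟩
  have hgen : ∀ u : ↥H, ∃ j : ℤ, ∃ s : ↥H, s ∈ S.subgroupOf H ∧ u = s * y' ^ j := by
    rintro ⟨u, hu⟩
    have hu' : (⟨u, hu⟩ : ↥H) ∈ S.subgroupOf H ⊔ zpowers y' := by
      rw [← mem_map_iff_mem H.subtype_injective, Subgroup.map_sup, MonoidHom.map_zpowers,
        subgroupOf_map_subtype, inf_eq_left.2 le_sup_left]
      exact hu
    obtain ⟨s, hs, w, hw, he⟩ := mem_sup_of_normal_left.1 hu'
    rw [← he]
    obtain ⟨j, rfl⟩ := mem_zpowers_iff.1 hw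
    exact ⟨j, s, hs, rfl⟩
  have hcyc : ∀ N : Subgroup ↥H, [N.Normal] → S.subgroupOf H ≤ N → IsCyclic (↥H ⧸ N) := by
    intro N _ hN
    refine ⟨⟨(y' : ↥H ⧸ N), fun u => ?_⟩⟩
    obtain ⟨v, rfl⟩ := QuotientGroup.mk_surjective u
    obtain ⟨j, s, hs, rfl⟩ := hgen v
    refine mem_zpowers_iff.2 ⟨j, ?_⟩
    rw [← QuotientGroup.mk_zpow, QuotientGroup.eq]
    have : (y' ^ j)⁻¹ * (s * y' ^ j) ∈ N := by
      refine hN ?_
      have := hSn.conj_mem s hs (y' ^ j)⁻¹
      rwa [inv_inv, mul_assoc] at this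
    exact this
  have hP : IsPGroup p (S.subgroupOf H) :=
    hS.of_equiv (subgroupOfEquivOfLe le_sup_left).symm
  refine ⟨fun T => ?_, fun T _ => ?_⟩
  · have hle : S.subgroupOf H ≤ (T : Subgroup ↥H) := by
      obtain ⟨R, hR⟩ := hP.exists_le_sylow
      obtain ⟨g, hg⟩ := MulAction.exists_smul_eq ↥H R T
      intro s hs
      rw [← hg]
      have h1 : g⁻¹ * s * g ∈ (R : Subgroup ↥H) := hR (by
        have := hSn.conj_mem s hs g⁻¹
        rwa [inv_inv] at this)
      have h2 := smul_mem_pointwise_smul _ (MulAut.conj g) (R : Subgroup ↥H) h1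
      rw [MulAut.smul_def, MulAut.conj_apply] at h2
      have h3 : g * (g⁻¹ * s * g) * g⁻¹ = s := by group
      rw [h3] at h2
      exact h2
    haveI := hcyc (S.subgroupOf H) le_rfl
    letI : CommGroup (↥H ⧸ S.subgroupOf H) := IsCyclic.commGroup
    refine ⟨fun t ht g => ?_⟩
    have h1 : g * t * g⁻¹ * t⁻¹ ∈ S.subgroupOf H := by
      rw [← QuotientGroup.eq_one_iff, QuotientGroup.mk_mul, QuotientGroup.mk_mul,
        QuotientGroup.mk_mul, QuotientGroup.mk_inv, QuotientGroup.mk_inv,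
        mul_inv_cancel_comm, mul_inv_cancel]
    have := mul_mem (hle h1) ht
    rwa [inv_mul_cancel_right] at this
  · obtain ⟨R, hR⟩ := hP.exists_le_sylow
    haveI := Sylow.unique_of_normal T inferInstance
    rw [Subsingleton.elim R T] at hR
    exact hcyc _ hR

theorem exists_gen {H : Subgroup G} (h : IsPByCyclic p H) :
    ∃ (S : Subgroup G) (y : G), H = S ⊔ zpowers y ∧ IsPGroup p S ∧
      y ∈ normalizer (S : Set G) ∧ (orderOf y).Coprime p := by
  obtain ⟨T⟩ := (inferInstance : Nonempty (Sylow p ↥H))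
  haveI := h.1 T
  haveI := h.2 T
  obtain ⟨u, hu⟩ := IsCyclic.exists_generator (α := ↥H ⧸ (T : Subgroup ↥H))
  obtain ⟨g, rfl⟩ := QuotientGroup.mk_surjective u
  obtain ⟨a, b, -, -, hab, -, -, hpa, hpb⟩ := ClassSize.CoprimeTop.exists_split p g
  have haT : a ∈ (T : Subgroup ↥H) := by
    obtain ⟨k, hk⟩ : ∃ k, orderOf a = p ^ k :=
      ⟨_, Nat.eq_prime_pow_of_unique_prime_dvd (orderOf_pos a).ne' fun {d} hd hda =>
        (Nat.prime_dvd_prime_iff_eq hd Fact.out).1 (hpa d hd hda)⟩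
    obtain ⟨R, hR⟩ := (IsPGroup.of_card (n := k) (by rw [Nat.card_zpowers, hk]) :
      IsPGroup p (zpowers a)).exists_le_sylow
    haveI := Sylow.unique_of_normal T inferInstance
    rw [Subsingleton.elim T R]
    exact hR (mem_zpowers a)
  refine ⟨(T : Subgroup ↥H).map H.subtype, (b : G), le_antisymm ?_ ?_, T.2.map _, ?_, ?_⟩
  · intro x hx
    obtain ⟨j, hj⟩ := mem_zpowers_iff.1 (hu ((⟨x, hx⟩ : ↥H) : ↥H ⧸ (T : Subgroup ↥H)))
    have hgb : ((g : ↥H) : ↥H ⧸ (T : Subgroup ↥H)) = b := by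
      rw [hab, QuotientGroup.mk_mul, (QuotientGroup.eq_one_iff a).2 haT, one_mul]
    rw [hgb, ← QuotientGroup.mk_zpow, QuotientGroup.eq] at hj
    have h1 : (b : G) ^ j * ((((b ^ j)⁻¹ * ⟨x, hx⟩ : ↥H)) : G) = x := by simp
    rw [← h1]
    exact mul_mem (mem_sup_right (zpow_mem (mem_zpowers _) _))
      (mem_sup_left (mem_map_of_mem _ hj))
  · exact sup_le (map_subtype_le _) (zpowers_le.2 b.2)
  · refine mem_normalizer_iff.2 fun x => ⟨?_, ?_⟩
    · rintro ⟨t, ht, rfl⟩
      exact ⟨b * t * b⁻¹, Normal.conj_mem inferInstance t ht b, rfl⟩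
    · rintro ⟨t, ht, he⟩
      refine ⟨b⁻¹ * t * b, ?_, ?_⟩
      · have := Normal.conj_mem (H := (T : Subgroup ↥H)) inferInstance t ht b⁻¹
        rwa [inv_inv] at this
      · change (b : G)⁻¹ * (t : G) * b = x
        rw [show (t : G) = b * x * (b : G)⁻¹ from he]
        group
  · rw [orderOf_coe]; exact hpb

/-- A cyclic `p`-group and a commuting `p'`-element generate a cyclic group. -/
theorem isCyclic_sup_zpowers {s y : G} (hsy : Commute s y) (hco : (orderOf s).Coprime (orderOf y)) :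
    IsCyclic ↥(zpowers s ⊔ zpowers y) := by
  obtain ⟨e, he1, he2⟩ := Nat.chineseRemainder hco 1 0
  have hs : s ∈ zpowers (s * y) := by
    refine mem_zpowers_iff.2 ⟨(e : ℤ), ?_⟩
    rw [zpow_natCast, hsy.mul_pow, pow_eq_pow_iff_modEq.2 he1, pow_eq_pow_iff_modEq.2 he2]
    simp
  have hy : y ∈ zpowers (s * y) := by
    have h := mul_mem (inv_mem hs) (mem_zpowers (s * y))
    rwa [inv_mul_cancel_left] at h
  exact isCyclic_of_le (sup_le (zpowers_le.2 hs) (zpowers_le.2 hy))

/-- A cyclic subgroup and an involution inverting it generate a dihedral group. -/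
theorem dihedral_of_inverting {s y : G} (hy : y * y = 1) (hys : y ∉ zpowers s)
    (hinv : y * s * y⁻¹ = s⁻¹) :
    Nonempty (↥(zpowers s ⊔ zpowers y) ≃* DihedralGroup (orderOf s)) := by
  set H := zpowers s ⊔ zpowers y
  set s' : ↥H := ⟨s, mem_sup_left (mem_zpowers s)⟩
  set y' : ↥H := ⟨y, mem_sup_right (mem_zpowers y)⟩
  have hn : y ∈ normalizer (zpowers s : Set G) := by
    have hconj : ∀ j : ℤ, y * s ^ j * y⁻¹ = s ^ (-j) := fun j => by
      rw [← conj_zpow, hinv, inv_zpow']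
    refine mem_normalizer_iff.2 fun x => ⟨?_, ?_⟩
    · rintro ⟨j, rfl⟩
      exact ⟨-j, (hconj j).symm⟩
    · rintro ⟨j, hj⟩
      refine ⟨-j, ?_⟩
      have hyi : y⁻¹ = y := inv_eq_of_mul_eq_one_right hy
      have : x = y * s ^ j * y⁻¹ := by
        rw [show s ^ j = y * x * y⁻¹ from hj, hyi]
        calc x = (y * y) * x * (y * y) := by rw [hy, one_mul, mul_one]
          _ = y * (y * x * y) * y := by simp only [mul_assoc]
      rw [this]
      exact (hconj j).symm
  have hidx : (zpowers s').index = 2 := by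
    rw [index_eq_two_iff]
    refine ⟨y', fun b => ?_⟩
    haveI : ((zpowers s).subgroupOf H).Normal :=
      normal_subgroupOf_of_le_normalizer (sup_le le_normalizer (zpowers_le.2 hn))
    have hz : zpowers s' = (zpowers s).subgroupOf H := by
      ext u
      simp only [mem_zpowers_iff, mem_subgroupOf]
      constructor
      · rintro ⟨j, rfl⟩; exact ⟨j, rfl⟩
      · rintro ⟨j, hj⟩; exact ⟨j, Subtype.ext hj⟩
    rw [hz, mem_subgroupOf, mem_subgroupOf]
    obtain ⟨_, ⟨i, rfl⟩, _, ⟨j, rfl⟩, hb⟩ :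
        ∃ u ∈ zpowers s, ∃ w ∈ zpowers y, u * w = (b : G) := by
      have h1 := b.2
      rw [← SetLike.mem_coe, coe_mul_of_right_le_normalizer_left _ _ (zpowers_le.2 hn)] at h1
      exact h1
    simp only at hb
    rcases Int.even_or_odd' j with ⟨k, rfl | rfl⟩
    · have hbs : (b : G) = s ^ i := by
        rw [← hb, zpow_mul, zpow_two, hy, one_zpow, mul_one]
      right
      refine ⟨hbs ▸ ⟨i, rfl⟩, fun h2 => hys ?_⟩
      have := mul_mem (inv_mem (hbs ▸ ⟨i, rfl⟩ : (b : G) ∈ zpowers s)) h2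
      rwa [Subgroup.coe_mul, inv_mul_cancel_left] at this
    · have hbs : (b : G) = s ^ i * y := by
        rw [← hb, zpow_add, zpow_mul, zpow_two, hy, one_zpow, one_mul, zpow_one]
      left
      refine ⟨?_, fun h2 => hys ?_⟩
      · rw [Subgroup.coe_mul, hbs, mul_assoc, show y * (y' : G) = 1 from hy, mul_one]
        exact ⟨i, rfl⟩
      · rw [hbs] at h2
        have := mul_mem (inv_mem (⟨i, rfl⟩ : s ^ i ∈ zpowers s)) h2
        rwa [inv_mul_cancel_left] at this
  refine Perm.nonempty_mulEquiv_dihedral (t := y') (z := s') (orderOf_pos s).ne' (Subtype.ext hy)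
    (orderOf_mk s _) (Subtype.ext hinv) (fun hmem => hys ?_) ?_
  · obtain ⟨j, hj⟩ := mem_zpowers_iff.1 hmem
    exact ⟨j, congrArg Subtype.val hj⟩
  · rw [← (zpowers s').card_mul_index, hidx, Nat.card_zpowers, orderOf_mk, mul_comm]

/-- The image of an inner automorphism preserves being cyclic or of a given type. -/
theorem nonempty_conj_equiv (H : Subgroup G) (g : G) :
    Nonempty (↥H ≃* ↥(H.map (MulAut.conj g).toMonoidHom)) :=
  ⟨(MulAut.conj g).subgroupMap H⟩

end Cfsg.Agent.PByCyclic
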